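import Mathlib.RingTheory.QuasiFinite.Basic
import Mathlib.RingTheory.Localization.Integral
import Mathlib.RingTheory.IntegralClosure.IsIntegralClosure.Basic
import Mathlib.RingTheory.Ideal.MinimalPrime.Basic

/-!
A finite type algebra with finite fibre over a minimal prime is finite after localising.
-/

universe u

open Polynomial TensorProduct

namespace Groth.Agent.H75.Birat

variable {A B : Type u} [CommRing A] [CommRing B] [Algebra A B]

theorem finite_fiber_of_finite_primesOver [Algebra.FiniteType A B] (p : PrimeSpectrum A)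
    (h : (PrimeSpectrum.comap (algebraMap A B) ⁻¹' {p}).Finite) :
    Module.Finite p.asIdeal.ResidueField (p.asIdeal.Fiber B) := by
  rw [Module.finite_iff_isArtinianRing, isArtinianRing_iff_isNoetherianRing_krullDimLE_zero]
  have : IsJacobsonRing (p.asIdeal.Fiber B) :=
    isJacobsonRing_of_finiteType (A := p.asIdeal.ResidueField)
  have : Finite (PrimeSpectrum (p.asIdeal.Fiber B)) :=
    (PrimeSpectrum.preimageEquivFiber A B p).finite_iff.mp h
  exact ⟨Algebra.FiniteType.isNoetherianRing p.asIdeal.ResidueField _,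
    (PrimeSpectrum.discreteTopology_iff_finite_and_krullDimLE_zero.mp inferInstance).right⟩

variable (p : Ideal A) [hp : p.IsPrime]

include hp in
/-- An element with integral image in the fibre over a minimal prime is killed by a polynomial
with leading coefficient outside the prime. -/
theorem exists_poly_leading_notMem (hmin : p ∈ minimalPrimes A)
    (b : B) (hb : IsIntegral p.ResidueField ((1 : p.ResidueField) ⊗ₜ[A] b : p.Fiber B)) :
    ∃ P : A[X], P.leadingCoeff ∉ p ∧ aeval b P = 0 := by
  classical
  obtain ⟨Q, hQ, hQb⟩ := hb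
  rw [← Polynomial.aeval_def] at hQb
  obtain ⟨⟨c, hc⟩, hcQ⟩ := IsLocalization.integerNormalization_map_to_map
    (nonZeroDivisors (A ⧸ p)) Q
  set Q' : (A ⧸ p)[X] := IsLocalization.integerNormalization (nonZeroDivisors (A ⧸ p)) Q with hQ'
  have hne : Q'.map (algebraMap (A ⧸ p) p.ResidueField) ≠ 0 := by
    rw [hcQ]
    exact smul_ne_zero (nonZeroDivisors.ne_zero hc) hQ.ne_zero
  have hne' : Q' ≠ 0 := fun h => hne (by rw [h, Polynomial.map_zero])
  obtain ⟨P, hP, hdeg⟩ := Polynomial.mem_lifts_and_degree_eq (f := Ideal.Quotient.mk p)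
    (p := Q') (by
      rw [Polynomial.lifts_iff_coeff_lifts]
      exact fun n => Ideal.Quotient.mk_surjective _)
  have hlead : P.leadingCoeff ∉ p := fun hmem => by
    have h1 : Q'.leadingCoeff = Ideal.Quotient.mk p P.leadingCoeff := by
      rw [leadingCoeff, leadingCoeff, ← natDegree_eq_of_degree_eq hdeg, ← hP, coeff_map]
    rw [Ideal.Quotient.eq_zero_iff_mem.mpr hmem] at h1
    exact hne' (leadingCoeff_eq_zero.mp h1)
  let z := aeval b P
  have hz : ((1 : p.ResidueField) ⊗ₜ[A] z : p.Fiber B) = 0 := by
    change Algebra.TensorProduct.includeRight (aeval b P) = 0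
    rw [← aeval_algHom_apply]
    have e1 : aeval ((1 : p.ResidueField) ⊗ₜ[A] b : p.Fiber B) P =
        aeval ((1 : p.ResidueField) ⊗ₜ[A] b : p.Fiber B) (P.map (algebraMap A p.ResidueField)) :=
      (aeval_map_algebraMap _ _ _).symm
    rw [show (Algebra.TensorProduct.includeRight b : p.Fiber B) = 1 ⊗ₜ[A] b from rfl, e1,
      show algebraMap A p.ResidueField =
        (algebraMap (A ⧸ p) p.ResidueField).comp (Ideal.Quotient.mk p) from rfl,
      ← Polynomial.map_map, hP, hcQ]
    rw [Algebra.smul_def, map_mul, hQb, mul_zero]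
  -- `z` is nilpotent after inverting `A \ p`
  obtain ⟨_, ⟨s, hs, rfl⟩, N, hN⟩ : ∃ t ∈ Algebra.algebraMapSubmonoid B p.primeCompl,
      ∃ N : ℕ, t * z ^ N = 0 := by
    by_contra hcon
    push Not at hcon
    let M : Submonoid B := Algebra.algebraMapSubmonoid B p.primeCompl ⊔ Submonoid.powers z
    have hdisj : Disjoint ((⊥ : Ideal B) : Set B) M := by
      rw [Set.disjoint_left]
      intro x hx hxM
      obtain ⟨t, ht, w, ⟨N, rfl⟩, rfl⟩ := Submonoid.mem_sup.mp hxM
      exact hcon t ht N (by simpa using hx)
    obtain ⟨q, hq, -, hqM⟩ := Ideal.exists_le_prime_disjoint ⊥ M hdisj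
    have hle : q.comap (algebraMap A B) ≤ p := fun a ha => by
      by_contra hap
      exact Set.disjoint_left.mp hqM ha (Submonoid.mem_sup_left ⟨a, hap, rfl⟩)
    have heq : q.comap (algebraMap A B) = p :=
      le_antisymm hle (hmin.2 ⟨Ideal.comap_isPrime _ _, bot_le⟩ hle)
    let qF := PrimeSpectrum.preimageEquivFiber A B ⟨p, hp⟩ ⟨⟨q, hq⟩, PrimeSpectrum.ext heq⟩
    have hback := congrArg (fun r => r.1.asIdeal) ((PrimeSpectrum.preimageEquivFiber A B ⟨p, hp⟩).symm_apply_apply
      ⟨⟨q, hq⟩, PrimeSpectrum.ext heq⟩)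
    have : z ∈ q := by
      simp only [] at hback
      rw [← hback]
      change Algebra.TensorProduct.includeRight z ∈ qF.asIdeal
      rw [show (Algebra.TensorProduct.includeRight z : p.Fiber B) = 0 from hz]
      exact zero_mem _
    exact Set.disjoint_left.mp hqM this (Submonoid.mem_sup_right (Submonoid.mem_powers z))
  refine ⟨C s * P ^ N, ?_, ?_⟩
  · rw [leadingCoeff_mul', leadingCoeff_C, leadingCoeff_pow']
    · exact fun h => (hp.mem_or_mem h).elim hs fun h => hlead (hp.mem_of_pow_mem _ h)
    · exact fun h => hlead (hp.mem_of_pow_mem N (h ▸ zero_mem _))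
    · rw [leadingCoeff_C, leadingCoeff_pow' (fun h => hlead (hp.mem_of_pow_mem N (h ▸ zero_mem _)))]
      exact fun h => ((hp.mem_or_mem (h ▸ zero_mem _ : s * P.leadingCoeff ^ N ∈ p))).elim hs
        fun h => hlead (hp.mem_of_pow_mem _ h)
  · rw [map_mul, map_pow, aeval_C]
    exact hN

include hp in
theorem exists_finite_away [Algebra.FiniteType A B] (hmin : p ∈ minimalPrimes A)
    (h : (PrimeSpectrum.comap (algebraMap A B) ⁻¹' {⟨p, hp⟩}).Finite) :
    ∃ s ∉ p, ∀ (A' B' : Type u) [CommRing A'] [CommRing B'] [Algebra A A'] [Algebra B B']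
      [IsLocalization.Away s A'] [IsLocalization.Away (algebraMap A B s) B'] (f : A' →+* B')
      (_ : f.comp (algebraMap A A') = (algebraMap B B').comp (algebraMap A B)), f.Finite := by
  classical
  haveI := finite_fiber_of_finite_primesOver ⟨p, hp⟩ h
  obtain ⟨S, hS⟩ := (inferInstance : Algebra.FiniteType A B).out
  choose P hP hPb using fun b : B => exists_poly_leading_notMem p hmin b
    (IsIntegral.of_finite p.ResidueField _)
  refine ⟨∏ b ∈ S, (P b).leadingCoeff, prod_mem (S := p.primeCompl) fun b _ => hP b, ?_⟩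
  intro A' B' _ _ _ _ _ _ f hf
  set s := ∏ b ∈ S, (P b).leadingCoeff
  letI := f.toAlgebra
  letI : Algebra A B' := ((algebraMap B B').comp (algebraMap A B)).toAlgebra
  haveI : IsScalarTower A A' B' := IsScalarTower.of_algebraMap_eq' hf.symm
  haveI : IsScalarTower A B B' := IsScalarTower.of_algebraMap_eq' rfl
  have hgen : ∀ b ∈ S, IsIntegral A' (algebraMap B B' b) := by
    intro b hb
    let Q := (P b).map (algebraMap A A')
    have hunit : IsUnit (algebraMap A A' (P b).leadingCoeff) :=
      isUnit_of_dvd_unit (map_dvd _ (Finset.dvd_prod_of_mem (fun b => (P b).leadingCoeff) hb))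
        (IsLocalization.Away.algebraMap_isUnit (S := A') s)
    by_cases hnt : Nontrivial A'
    · refine ⟨C (↑hunit.unit⁻¹ : A') * Q, ?_, ?_⟩
      · rw [Monic, leadingCoeff_mul', leadingCoeff_C,
          leadingCoeff_map_of_leadingCoeff_ne_zero _ hunit.ne_zero]
        · exact hunit.val_inv_mul
        · rw [leadingCoeff_C, leadingCoeff_map_of_leadingCoeff_ne_zero _ hunit.ne_zero,
            hunit.val_inv_mul]
          exact one_ne_zero
      · rw [← Polynomial.aeval_def, map_mul, aeval_map_algebraMap]
        refine mul_eq_zero_of_right _ ?_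
        rw [show algebraMap B B' b = IsScalarTower.toAlgHom A B B' b from rfl, aeval_algHom_apply,
          hPb, map_zero]
    · rw [not_nontrivial_iff_subsingleton] at hnt
      exact ⟨1, monic_one, by
        haveI : Subsingleton B' := Module.subsingleton A' B'
        exact Subsingleton.elim _ _⟩
  -- the localisation is generated by the generators and the inverse of the image of `s`
  have htop : Algebra.adjoin A' ((algebraMap B B') '' (S : Set B)) = ⊤ := by
    rw [eq_top_iff]
    intro x _
    have hB : ∀ b : B, algebraMap B B' b ∈ Algebra.adjoin A' ((algebraMap B B') '' (S : Set B)) := by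
      intro b
      have hb : b ∈ Algebra.adjoin A (S : Set B) := by rw [hS]; trivial
      induction hb using Algebra.adjoin_induction with
      | mem c hc => exact Algebra.subset_adjoin ⟨c, hc, rfl⟩
      | algebraMap c =>
        rw [show algebraMap B B' (algebraMap A B c) = algebraMap A' B' (algebraMap A A' c) from
          (RingHom.congr_fun hf c).symm]
        exact Subalgebra.algebraMap_mem _ _
      | add c d _ _ h1 h2 => rw [map_add]; exact add_mem h1 h2
      | mul c d _ _ h1 h2 => rw [map_mul]; exact mul_mem h1 h2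
    obtain ⟨b, ⟨_, n, rfl⟩, rfl⟩ :=
      IsLocalization.exists_mk'_eq (Submonoid.powers (algebraMap A B s)) x
    obtain ⟨u, hu⟩ := (IsLocalization.Away.algebraMap_isUnit (S := A') s).pow n
    have : IsLocalization.mk' B' b (⟨(algebraMap A B s) ^ n, n, rfl⟩ :
        Submonoid.powers (algebraMap A B s)) = algebraMap A' B' ↑u⁻¹ * algebraMap B B' b := by
      rw [IsLocalization.mk'_eq_iff_eq_mul, mul_right_comm, map_pow,
        show algebraMap B B' (algebraMap A B s) = algebraMap A' B' (algebraMap A A' s) from
          (RingHom.congr_fun hf s).symm, ← map_pow, ← map_mul, ← hu, Units.inv_mul, map_one, one_mul]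
    rw [this]
    exact mul_mem (Subalgebra.algebraMap_mem _ _) (hB b)
  change Module.Finite A' B'
  refine ⟨?_⟩
  rw [← Algebra.top_toSubmodule, ← htop]
  exact fg_adjoin_of_finite ((S.finite_toSet).image _) (by rintro _ ⟨b, hb, rfl⟩; exact hgen b hb)

end Groth.Agent.H75.Birat
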