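import Groth.Agent.H75.Birat.Gen
import Mathlib.AlgebraicGeometry.Birational.Birational

/-!
Rational maps over a base: uniqueness, spreading out, largest representative, birationality.
-/

universe u

open CategoryTheory CategoryTheory.Limits AlgebraicGeometry TopologicalSpace

namespace Groth.Agent.H75.Birat

variable {S X Y : Scheme.{u}}

theorem equiv_of_fromSpecStalkOfMem_eq_lft [X.Over S] [Y.Over S] [IrreducibleSpace X]
    [LocallyOfFiniteType (Y ↘ S)] {x : X} (f g : X.PartialMap Y) [f.IsOver S] [g.IsOver S]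
    (hxf : x ∈ f.domain) (hxg : x ∈ g.domain)
    (H : f.fromSpecStalkOfMem hxf = g.fromSpecStalkOfMem hxg) : f.equiv g := by
  let W := f.domain ⊓ g.domain
  let f' := X.homOfLE (inf_le_left : W ≤ f.domain) ≫ f.hom
  let g' := X.homOfLE (inf_le_right : W ≤ g.domain) ≫ g.hom
  have hfS : f.hom ≫ (Y ↘ S) = f.domain.ι ≫ (X ↘ S) := Scheme.PartialMap.isOver_iff.mp ‹_›
  have hgS : g.hom ≫ (Y ↘ S) = g.domain.ι ≫ (X ↘ S) := Scheme.PartialMap.isOver_iff.mp ‹_›
  have e : W.toScheme.fromSpecStalk ⟨x, hxf, hxg⟩ ≫ f' =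
      W.toScheme.fromSpecStalk ⟨x, hxf, hxg⟩ ≫ g' := by
    have hk : ∀ (V : X.Opens) (h : W ≤ V), W.fromSpecStalkOfMem x ⟨hxf, hxg⟩ ≫ X.homOfLE h =
        V.fromSpecStalkOfMem x (h ⟨hxf, hxg⟩) := fun V h => by
      rw [← cancel_mono V.ι]; simp
    have h2 : W.fromSpecStalkOfMem x ⟨hxf, hxg⟩ ≫ f' = W.fromSpecStalkOfMem x ⟨hxf, hxg⟩ ≫ g' := by
      simp only [f', g']
      rw [reassoc_of% hk f.domain inf_le_left, reassoc_of% hk g.domain inf_le_right]
      exact H
    rw [← cancel_epi (Spec.map (inv (W.ι.stalkMap ⟨x, hxf, hxg⟩)))]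
    simp only [Scheme.Opens.fromSpecStalkOfMem, Category.assoc] at h2
    exact h2
  obtain ⟨U, hxU, hU⟩ := Spread.spread_out_unique (Y ↘ S) f' g'
    (by simp [f', g', hfS, hgS]) e
  let U' : X.Opens := W.ι ''ᵁ U
  have hU' : U' ≤ W := W.ι_image_le U
  have hd : Dense (U' : Set X) := U'.2.dense ⟨x, ⟨x, hxf, hxg⟩, hxU, rfl⟩
  refine ⟨U', hd, hU'.trans inf_le_left, hU'.trans inf_le_right, ?_⟩
  simp only [Scheme.PartialMap.restrict_hom]
  change (X.homOfLE _ ≫ f.hom : U'.toScheme ⟶ Y) = X.homOfLE _ ≫ g.hom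
  rw [← cancel_epi (W.ι.isoImage U).hom]
  have h1 : (W.ι.isoImage U).hom ≫ X.homOfLE hU' = U.ι := by
    rw [← cancel_mono W.ι, Category.assoc, Scheme.homOfLE_ι, Scheme.Hom.isoImage_hom_ι]
  have hf' : X.homOfLE (hU'.trans inf_le_left) ≫ f.hom = X.homOfLE hU' ≫ f' := by
    simp [f', Scheme.homOfLE_homOfLE_assoc]
  have hg' : X.homOfLE (hU'.trans inf_le_right) ≫ g.hom = X.homOfLE hU' ≫ g' := by
    simp [g', Scheme.homOfLE_homOfLE_assoc]
  rw [hf', hg', reassoc_of% h1, reassoc_of% h1, hU]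

theorem exists_largest_over [X.Over S] [Y.Over S] [AlgebraicGeometry.IsReduced X]
    [IsSeparated (Y ↘ S)] (f : X ⤏ Y) [f.IsOver S] :
    ∃ g : X.PartialMap Y, g.IsOver S ∧ g.toRationalMap = f ∧
      ∀ h : X.PartialMap Y, h.IsOver S → h.toRationalMap = f →
        ∃ hle : h.domain ≤ g.domain, h = g.restrict h.domain h.dense_domain hle := by
  classical
  let I := {g : X.PartialMap Y // g.IsOver S ∧ g.toRationalMap = f}
  obtain ⟨g₀, hg₀, hg₀'⟩ := f.exists_partialMap_over S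
  let D : X.Opens := ⨆ i : I, i.1.domain
  have hle : ∀ i : I, i.1.domain ≤ D := le_iSup (fun i : I => i.1.domain)
  let 𝒰 : D.toScheme.OpenCover :=
    { I₀ := I
      X := fun i => i.1.domain.toScheme
      f := fun i => X.homOfLE (hle i)
      mem₀ := by
        rw [Scheme.presieve₀_mem_precoverage_iff]
        refine ⟨fun x => ?_, inferInstance⟩
        obtain ⟨i, hi⟩ := Opens.mem_iSup.mp x.2
        exact ⟨i, ⟨x.1, hi⟩, Subtype.ext (by simp)⟩ }
  have hcompat : ∀ i j : I, pullback.fst (𝒰.f i) (𝒰.f j) ≫ i.1.hom =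
      pullback.snd (𝒰.f i) (𝒰.f j) ≫ j.1.hom := by
    intro i j
    haveI := i.2.1
    haveI := j.2.1
    refine (cancel_epi (isPullback_opens_inf_le (hle i) (hle j)).isoPullback.hom).mp ?_
    simp only [𝒰, IsPullback.isoPullback_hom_fst_assoc, IsPullback.isoPullback_hom_snd_assoc]
    exact (Scheme.PartialMap.equiv_iff_of_isSeparated (S := S) (f := i.1) (g := j.1)).mp
      (Scheme.PartialMap.toRationalMap_eq_iff.mp (i.2.2.trans j.2.2.symm))
  have hD : Dense (D : Set X) := g₀.dense_domain.mono (hle ⟨g₀, hg₀, hg₀'⟩)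
  let g : X.PartialMap Y :=
    ⟨D, hD, 𝒰.glueMorphisms (fun i => i.1.hom) hcompat⟩
  have hres : ∀ i : I, X.homOfLE (hle i) ≫ g.hom = i.1.hom := fun i =>
    𝒰.ι_glueMorphisms (fun i => i.1.hom) hcompat i
  have hgS : g.IsOver S := by
    rw [Scheme.PartialMap.isOver_iff]
    refine 𝒰.hom_ext _ _ fun i => ?_
    have h1 : i.1.hom ≫ (Y ↘ S) = i.1.domain.ι ≫ (X ↘ S) :=
      Scheme.PartialMap.isOver_iff.mp i.2.1
    change X.homOfLE (hle i) ≫ g.hom ≫ (Y ↘ S) = _
    rw [reassoc_of% (hres i), h1]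
    change _ = X.homOfLE (hle i) ≫ D.ι ≫ (X ↘ S)
    rw [Scheme.homOfLE_ι_assoc]
  have hext : ∀ i : I, i.1 = g.restrict i.1.domain i.1.dense_domain (hle i) := fun i =>
    Scheme.PartialMap.ext _ _ rfl (by
      simp [hres i]; erw [Scheme.isoOfEq_rfl, Iso.refl_hom, Category.id_comp])
  refine ⟨g, hgS, ?_, fun h hh hh' => ⟨hle ⟨h, hh, hh'⟩, hext ⟨h, hh, hh'⟩⟩⟩
  have h0 := congrArg Scheme.PartialMap.toRationalMap (hext ⟨g₀, hg₀, hg₀'⟩)
  rw [Scheme.PartialMap.restrict_toRationalMap] at h0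
  exact h0.symm.trans hg₀'

theorem stalk_comm_iff (sX : X ⟶ S) (sY : Y ⟶ S) (x : X) (y : Y) (hs : sX x = sY y)
    (e : X.presheaf.stalk x ⟶ Y.presheaf.stalk y) :
    sX.stalkMap x ≫ e = eqToHom (congrArg S.presheaf.stalk hs) ≫ sY.stalkMap y ↔
      Spec.map e ≫ X.fromSpecStalk x ≫ sX = Y.fromSpecStalk y ≫ sY := by
  have h : ∀ {a b : S} (h : a = b), eqToHom (congrArg S.presheaf.stalk h) =
      S.presheaf.stalkSpecializes (specializes_of_eq h.symm) := by
    rintro a b rfl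
    simp
  rw [h hs, ← Scheme.SpecMap_stalkMap_fromSpecStalk, ← Scheme.SpecMap_stalkMap_fromSpecStalk,
    ← Spec.map_comp_assoc]
  constructor
  · intro he
    rw [he, Spec.map_comp_assoc, Scheme.SpecMap_stalkSpecializes_fromSpecStalk]
  · intro he
    apply Spec.map_injective
    rw [← cancel_mono (S.fromSpecStalk (sX x)), he, Spec.map_comp_assoc,
      Scheme.SpecMap_stalkSpecializes_fromSpecStalk]

/-- The stalk isomorphism induced by an `S`-birational map at generic points. -/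
theorem exists_stalkIso [IrreducibleSpace X] [IrreducibleSpace Y] {sX : X ⟶ S} {sY : Y ⟶ S}
    (h : Scheme.BirationalOver sX sY) :
    ∃ (hs : sX (genericPoint X) = sY (genericPoint Y))
      (e : X.presheaf.stalk (genericPoint X) ≅ Y.presheaf.stalk (genericPoint Y)),
      sX.stalkMap (genericPoint X) ≫ e.hom =
        eqToHom (congrArg S.presheaf.stalk hs) ≫ sY.stalkMap (genericPoint Y) := by
  obtain ⟨F, hF⟩ := h
  let ξ := genericPoint X
  have hξ : ξ ∈ F.source := by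
    obtain ⟨z, hz⟩ := F.dense_source.nonempty
    exact ((genericPoint_spec X).specializes (Set.mem_univ z)).mem_open F.source.2 hz
  let z₀ : F.source.toScheme := ⟨ξ, hξ⟩
  have hgs : F.source.ι ≫ sX = (F.iso.hom ≫ F.target.ι) ≫ sY := by
    rw [Category.assoc]; exact Eq.symm hF
  let g : F.source.toScheme ⟶ Y := F.iso.hom ≫ F.target.ι
  have hgen : g z₀ = genericPoint Y := by
    refine isGen_iff_eq_genericPoint.mp (Lib.SchTopo.Closure.maximal_of_forall_eq fun y hy => ?_)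
    have hmem : y ∈ Set.range g := by
      have hr : Set.range g = (F.target : Set Y) := by
        rw [Scheme.Hom.comp_base, TopCat.coe_comp, Set.range_comp,
          Set.range_eq_univ.mpr F.iso.hom.surjective, Set.image_univ, Scheme.Opens.range_ι]
      rw [hr]
      exact hy.mem_open F.target.2 (hr ▸ ⟨_, rfl⟩)
    obtain ⟨z, rfl⟩ := hmem
    have hz : z ⤳ z₀ := g.isOpenEmbedding.isInducing.specializes_iff.mp hy
    have : z.1 = ξ := IsGen.genericPoint.eq_of_specializes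
      (hz.map continuous_subtype_val)
    rw [show z = z₀ from Subtype.ext this]
  haveI i1 : IsIso (F.source.ι.stalkMap z₀) :=
    inferInstanceAs (IsIso (F.source.ι.stalkMap z₀))
  let hy : Y.presheaf.stalk (genericPoint Y) ≅ Y.presheaf.stalk (g z₀) :=
    eqToIso (congrArg Y.presheaf.stalk hgen.symm)
  let e : X.presheaf.stalk ξ ≅ Y.presheaf.stalk (genericPoint Y) :=
    @asIso _ _ _ _ (F.source.ι.stalkMap z₀) i1 ≪≫ (asIso (g.stalkMap z₀)).symm ≪≫ hy.symm
  have hs : sX ξ = sY (genericPoint Y) := by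
    rw [← hgen]
    exact congrArg (fun k => k z₀) hgs
  refine ⟨hs, e, (stalk_comm_iff sX sY ξ _ hs e.hom).mpr ?_⟩
  have hY : Spec.map hy.inv ≫ Y.fromSpecStalk (g z₀) = Y.fromSpecStalk (genericPoint Y) := by
    have hh : hy.inv = Y.presheaf.stalkSpecializes (specializes_of_eq hgen.symm) := by
      have hg' : ∀ {a b : Y} (h : a = b), eqToHom (congrArg Y.presheaf.stalk h) =
          Y.presheaf.stalkSpecializes (specializes_of_eq h.symm) := by
        rintro a b rfl
        simp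
      exact hg' hgen
    rw [hh, Scheme.SpecMap_stalkSpecializes_fromSpecStalk]
  rw [← hY]
  simp only [e, Iso.trans_hom, asIso_hom, Iso.symm_hom, asIso_inv, Spec.map_comp, Category.assoc]
  congr 1
  have h1 : Spec.map (F.source.ι.stalkMap z₀) ≫ X.fromSpecStalk ξ =
      F.source.toScheme.fromSpecStalk z₀ ≫ F.source.ι :=
    Scheme.SpecMap_stalkMap_fromSpecStalk _
  erw [reassoc_of% h1, hgs, ← Scheme.SpecMap_stalkMap_fromSpecStalk_assoc g]
  simp only [← Spec.map_comp_assoc, IsIso.hom_inv_id, IsIso.inv_hom_id, Spec.map_id,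
    Category.id_comp]

/-- Birationality from a morphism which is iso near the generic point. -/
theorem birationalOver_of_OI [IrreducibleSpace X] [IrreducibleSpace Y] {sX : X ⟶ S} {sY : Y ⟶ S}
    {W : X.Opens} (g : W.toScheme ⟶ Y) (hg : g ≫ sY = W.ι ≫ sX) {U : W.toScheme.Opens}
    {V : Y.Opens} (hUV : U ≤ g ⁻¹ᵁ V) [IsIso (g.resLE V U hUV)] {x : W.toScheme} (hx : x ∈ U) :
    Scheme.BirationalOver sX sY := by
  refine ⟨{ source := W.ι ''ᵁ U, dense_source := (W.ι ''ᵁ U).2.dense ⟨_, x, hx, rfl⟩,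
            target := V, dense_target := V.2.dense ⟨g x, hUV hx⟩,
            iso := (W.ι.isoImage U).symm ≪≫ asIso (g.resLE V U hUV) }, ?_⟩
  change ((W.ι.isoImage U).symm ≪≫ asIso (g.resLE V U hUV)).hom ≫ V.ι ≫ sY =
    (W.ι ''ᵁ U).ι ≫ sX
  simp only [Iso.trans_hom, Iso.symm_hom, asIso_hom, Category.assoc,
    Scheme.Hom.resLE_comp_ι_assoc, hg]
  rw [Iso.inv_comp_eq, Scheme.Hom.isoImage_hom_ι_assoc]

theorem exists_lfp_nhd {W : Scheme.{u}} (g : W ⟶ Y) (sY : Y ⟶ S) [LocallyOfFiniteType sY]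
    [LocallyOfFinitePresentation (g ≫ sY)] (z : W) :
    ∃ W' : W.Opens, z ∈ W' ∧ LocallyOfFinitePresentation (W'.ι ≫ g) := by
  obtain ⟨_, ⟨U, hU, rfl⟩, hzU, -⟩ :=
    S.isBasis_affineOpens.exists_subset_of_mem_open (Set.mem_univ (sY (g z))) isOpen_univ
  obtain ⟨_, ⟨V : Y.Opens, hV, rfl⟩, hzV, iVU⟩ :=
    Y.isBasis_affineOpens.exists_subset_of_mem_open hzU (sY ⁻¹ᵁ U).2
  obtain ⟨_, ⟨W' : W.Opens, hW', rfl⟩, hzW', iW'V⟩ :=
    W.isBasis_affineOpens.exists_subset_of_mem_open (show z ∈ g ⁻¹ᵁ V from hzV) (g ⁻¹ᵁ V).2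
  replace iVU : V ≤ sY ⁻¹ᵁ U := iVU
  replace iW'V : W' ≤ g ⁻¹ᵁ V := iW'V
  refine ⟨W', hzW', ?_⟩
  have h1 : (g.appLE V W' iW'V).hom.FinitePresentation := by
    refine RingHom.FinitePresentation.of_comp_finiteType (sY.appLE U V iVU).hom ?_
      (sY.finiteType_appLE hU hV _)
    rw [← CommRingCat.hom_comp, Scheme.Hom.appLE_comp_appLE]
    exact LocallyOfFinitePresentation.finitePresentation_appLE _ hU hW' _
  haveI : LocallyOfFinitePresentation (Spec.map (g.appLE V W' iW'V)) :=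
    (LocallyOfFinitePresentation.SpecMap_iff _).mpr h1
  have : W'.ι ≫ g = hW'.isoSpec.hom ≫ Spec.map (g.appLE V W' iW'V) ≫ hV.fromSpec := by
    rw [IsAffineOpen.SpecMap_appLE_fromSpec g hV hW' iW'V, IsAffineOpen.fromSpec]
    simp
  rw [this]
  infer_instance

theorem isIso_stalkMap_of_fromSpecStalk (f : X ⟶ Y) (x : X) {y : Y} (h : f x = y)
    (α : Y.presheaf.stalk y ≅ X.presheaf.stalk x)
    (hα : X.fromSpecStalk x ≫ f = Spec.map α.hom ≫ Y.fromSpecStalk y) : IsIso (f.stalkMap x) := by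
  subst h
  have : f.stalkMap x = α.hom := by
    apply Spec.map_injective
    rw [← cancel_mono (Y.fromSpecStalk (f x)), Scheme.SpecMap_stalkMap_fromSpecStalk, hα]
  rw [this]
  infer_instance

/-- Spreading out a stalk isomorphism at generic points to a birational map. -/
theorem birationalOver_of_stalkIso [IrreducibleSpace X] [IrreducibleSpace Y] (sX : X ⟶ S) (sY : Y ⟶ S)
    (hs : sX (genericPoint X) = sY (genericPoint Y))
    (e : X.presheaf.stalk (genericPoint X) ≅ Y.presheaf.stalk (genericPoint Y))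
    (he : sX.stalkMap (genericPoint X) ≫ e.hom =
      eqToHom (congrArg S.presheaf.stalk hs) ≫ sY.stalkMap (genericPoint Y))
    (h : (LocallyOfFinitePresentation sX ∧ LocallyOfFinitePresentation sY) ∨
      (LocallyOfFiniteType sX ∧ LocallyOfFiniteType sY ∧ X.IsGermInjectiveAt (genericPoint X) ∧
        Y.IsGermInjectiveAt (genericPoint Y))) :
    Scheme.BirationalOver sX sY := by
  have h0 := (stalk_comm_iff sX sY _ _ hs e.hom).mp he
  let φ := Spec.map e.inv ≫ Y.fromSpecStalk (genericPoint Y)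
  have hφ : φ ≫ sY = X.fromSpecStalk (genericPoint X) ≫ sX := by
    simp only [φ, Category.assoc, ← h0, ← Spec.map_comp_assoc, Iso.hom_inv_id, Spec.map_id,
      Category.id_comp]
  obtain ⟨W, hxW, g, hgφ, hg⟩ : ∃ (W : X.Opens) (hxW : genericPoint X ∈ W) (g : W.toScheme ⟶ Y),
      φ = W.fromSpecStalkOfMem (genericPoint X) hxW ≫ g ∧ g ≫ sY = W.ι ≫ sX := by
    rcases h with ⟨_, _⟩ | ⟨_, _, _, _⟩
    · exact Spread.spread_out sX sY φ hφ
    · exact spread_out_of_isGermInjective' sX sY φ hφ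
  let z : W.toScheme := ⟨genericPoint X, hxW⟩
  have hz : W.toScheme.fromSpecStalk z ≫ g = Spec.map (W.ι.stalkMap z) ≫ φ := by
    rw [hgφ, Scheme.Opens.fromSpecStalkOfMem]
    simp only [Category.assoc]
    erw [← Spec.map_comp_assoc, IsIso.inv_hom_id, Spec.map_id, Category.id_comp]
  have hgz : g z = genericPoint Y := by
    have := congrArg (fun k => k (IsLocalRing.closedPoint _)) hz
    simp only [Scheme.Hom.comp_apply, Scheme.fromSpecStalk_closedPoint, φ] at this
    rw [this]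
    have hc : ∀ {A B : CommRingCat.{u}} (f : A ⟶ B) [IsLocalRing A] [IsLocalRing B] [IsLocalHom f.hom],
        Spec.map f (IsLocalRing.closedPoint B) = IsLocalRing.closedPoint A :=
      fun f _ _ _ => IsLocalRing.comap_closedPoint f.hom
    have h1 : Spec.map (W.ι.stalkMap z) (IsLocalRing.closedPoint _) =
        IsLocalRing.closedPoint (X.presheaf.stalk (genericPoint X)) := hc _
    erw [h1, Scheme.Hom.comp_apply, hc e.inv, Scheme.fromSpecStalk_closedPoint]
  have i1 : IsIso (W.ι.stalkMap z) := inferInstance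
  haveI := isIso_stalkMap_of_fromSpecStalk g z hgz
    (e.symm ≪≫ @asIso _ _ _ _ (W.ι.stalkMap z) i1) (by
    rw [hz, Iso.trans_hom, Spec.map_comp, Category.assoc]
    rfl)
  obtain ⟨U, V, hUV, hzU, hiso⟩ : ∃ (U' : W.toScheme.Opens) (V' : Y.Opens) (h : U' ≤ g ⁻¹ᵁ V'),
      z ∈ U' ∧ IsIso (g.resLE V' U' h) := by
    rcases h with ⟨_, _⟩ | ⟨_, _, _, hY⟩
    · haveI : LocallyOfFinitePresentation (g ≫ sY) := hg ▸ inferInstance
      obtain ⟨W', hzW', _⟩ := exists_lfp_nhd g sY z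
      let z' : W'.toScheme := ⟨z, hzW'⟩
      haveI : IsIso ((W'.ι ≫ g).stalkMap z') := by
        have i2 : IsIso (g.stalkMap (W'.ι z')) := ‹IsIso (g.stalkMap z)›
        have i3 : IsIso (W'.ι.stalkMap z') := inferInstance
        rw [Scheme.Hom.stalkMap_comp]; exact @IsIso.comp_isIso _ _ _ _ _ _ _ i2 i3
      obtain ⟨U', V', h', hz', _⟩ := Spread.exists_isIso_resLE_of_lfp (W'.ι ≫ g) z'
      have hOI := OI.of_isIso (f := W'.ι ≫ g) h'
      have hOI' : OI g (W'.ι ''ᵁ U') V' := by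
        have e : (W'.ι ''ᵁ U').ι ≫ g = (W'.ι.isoImage U').inv ≫ U'.ι ≫ W'.ι ≫ g := by
          rw [← Category.assoc U'.ι, ← Scheme.Hom.isoImage_hom_ι W'.ι U']; simp
        haveI := hOI.1
        refine ⟨by rw [e]; infer_instance, ?_⟩
        rw [e, Scheme.Hom.comp_base, TopCat.coe_comp, Set.range_comp,
          Set.range_eq_univ.mpr (W'.ι.isoImage U').inv.surjective, Set.image_univ]
        exact hOI.2
      exact ⟨W'.ι ''ᵁ U', V', hOI'.le, ⟨z', hz', rfl⟩, hOI'.isIso⟩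
    · haveI : LocallyOfFiniteType (g ≫ sY) := hg ▸ inferInstance
      haveI := locallyOfFiniteType_of_comp g sY
      haveI : Y.IsGermInjectiveAt (g z) := hgz ▸ hY
      exact Spread.exists_isIso_resLE_of_lft g z
  exact birationalOver_of_OI g hg hUV hzU

end Groth.Agent.H75.Birat
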