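import Groth.Agent.Lib.SchTopo.Closure
import Groth.Agent.H75.Spread.Iso
import Mathlib.AlgebraicGeometry.Morphisms.Preimmersion
import Mathlib.AlgebraicGeometry.Morphisms.Flat
import Mathlib.AlgebraicGeometry.Morphisms.OpenImmersion
import Mathlib.AlgebraicGeometry.Properties

/-!
Generic points of components, birational morphisms.
-/

universe u

open CategoryTheory CategoryTheory.Limits AlgebraicGeometry TopologicalSpace Topology

namespace Groth.Agent.H75.Birat

open Groth.Agent.Lib.SchTopo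

variable {X Y : Scheme.{u}}

/-- `x` is the generic point of an irreducible component. -/
def IsGen (x : X) : Prop := closure {x} ∈ irreducibleComponents ↥X

theorem IsGen.eq_of_specializes {x z : X} (hx : IsGen x) (h : z ⤳ x) : z = x :=
  Closure.eq_of_specializes_of_closure_mem hx h

theorem exists_isGen (x : X) : ∃ η : X, IsGen η ∧ η ⤳ x := Closure.exists_maximal_specializes X x

theorem IsGen.genericPoint {X : Scheme.{u}} [IrreducibleSpace X] : IsGen (genericPoint X) :=
  Closure.maximal_of_forall_eq fun y hy =>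
    (hy.antisymm (genericPoint_spec X |>.specializes (Set.mem_univ y))).eq

theorem isGen_iff_eq_genericPoint [IrreducibleSpace X] {x : X} :
    IsGen x ↔ x = genericPoint X :=
  ⟨fun h => (h.eq_of_specializes ((genericPoint_spec X).specializes (Set.mem_univ x))).symm,
    fun h => h ▸ IsGen.genericPoint⟩

theorem finite_isGen (h : (irreducibleComponents ↥X).Finite) : {x : X | IsGen x}.Finite := by
  refine Set.Finite.of_finite_image (f := fun x => closure {x})
    (h.subset ?_) fun a _ b hb e => ?_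
  · rintro _ ⟨x, hx, rfl⟩; exact hx
  · exact IsGen.eq_of_specializes hb (specializes_iff_mem_closure.mpr (by
      change b ∈ closure {a}
      simp only at e
      rw [e]; exact subset_closure rfl))

theorem dense_of_isGen_mem {U : Set X} (h : ∀ x, IsGen x → x ∈ U) : Dense U := fun x => by
  obtain ⟨η, hη, hηx⟩ := exists_isGen x
  exact closure_mono (Set.singleton_subset_iff.mpr (h η hη)) (specializes_iff_mem_closure.mp hηx)

theorem mem_of_isGen_of_dense_finite (hfin : (irreducibleComponents ↥X).Finite) {U : X.Opens}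
    (hU : Dense (U : Set X)) {x : X} (hx : IsGen x) : x ∈ U := by
  classical
  have hF := finite_isGen hfin
  let C : Set X := ⋃ η ∈ {η : X | IsGen η} \ {x}, closure {η}
  have hC : IsClosed C := (hF.subset Set.sdiff_subset).isClosed_biUnion fun η _ => isClosed_closure
  have hxC : x ∉ C := by
    simp only [C, Set.mem_iUnion]
    rintro ⟨η, ⟨hη, hne⟩, h⟩
    exact hne (hx.eq_of_specializes (specializes_iff_mem_closure.mpr h))
  obtain ⟨z, hzC, hzU⟩ := hU.inter_open_nonempty Cᶜ hC.isOpen_compl ⟨x, hxC⟩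
  obtain ⟨η, hη, hηz⟩ := exists_isGen z
  have : η = x := by
    by_contra hne
    exact hzC (Set.mem_biUnion ⟨hη, hne⟩ (specializes_iff_mem_closure.mp hηz))
  exact this ▸ hηz.mem_open U.2 hzU

/-- The open set of points whose only generic generization is `y`. -/
theorem exists_nhd_unique_gen (hfin : (irreducibleComponents ↥Y).Finite) {y : Y} (hy : IsGen y) :
    ∃ N : Y.Opens, y ∈ N ∧ ∀ z ∈ N, ∀ η, IsGen η → η ⤳ z → η = y := by
  have hF := finite_isGen hfin
  let C : Set Y := ⋃ η ∈ {η : Y | IsGen η} \ {y}, closure {η}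
  have hC : IsClosed C := (hF.subset Set.sdiff_subset).isClosed_biUnion fun η _ => isClosed_closure
  refine ⟨⟨Cᶜ, hC.isOpen_compl⟩, ?_, fun z hz η hη hηz => ?_⟩
  · change y ∉ C
    simp only [C, Set.mem_iUnion]
    rintro ⟨η, ⟨hη, hne⟩, h⟩
    exact hne (hy.eq_of_specializes (specializes_iff_mem_closure.mpr h))
  · by_contra hne
    exact hz (Set.mem_biUnion ⟨hη, hne⟩ (specializes_iff_mem_closure.mp hηz))

theorem isGermInjectiveAt_of_isGen [IsReduced Y] (hfin : (irreducibleComponents ↥Y).Finite) {y : Y}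
    (hy : IsGen y) : Y.IsGermInjectiveAt y := by
  obtain ⟨N, hyN, hN⟩ := exists_nhd_unique_gen hfin hy
  have hirr : IsIrreducible ((N : Set Y)) := by
    refine ⟨⟨y, hyN⟩, fun a b ha hb ⟨p, hp, hpa⟩ ⟨q, hq, hqb⟩ => ⟨y, hyN, ?_, ?_⟩⟩
    · obtain ⟨η, hη, hηp⟩ := exists_isGen p
      rw [← hN p hp η hη hηp]; exact hηp.mem_open ha hpa
    · obtain ⟨η, hη, hηq⟩ := exists_isGen q
      rw [← hN q hq η hη hηq]; exact hηq.mem_open hb hqb
  haveI : IrreducibleSpace N.toScheme := Subtype.irreducibleSpace hirr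
  haveI : IsIntegral N.toScheme := isIntegral_of_irreducibleSpace_of_isReduced _
  exact inferInstanceAs (Y.IsGermInjectiveAt (N.ι ⟨y, hyN⟩))

/-- If the stalk map is bijective at a generization with the same image, there is no proper
specialization with that image. -/
theorem eq_of_isIso_stalkMap (f : X ⟶ Y) {x₀ x : X} (h : x₀ ⤳ x) (he : f x₀ = f x)
    [IsIso (f.stalkMap x₀)] : x₀ = x := by
  let σ := X.presheaf.stalkSpecializes h
  let ψ := f.stalkMap x
  have hcl : ∀ a : X.presheaf.stalk x,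
      a ∈ IsLocalRing.maximalIdeal (X.presheaf.stalk x) →
      σ a ∈ IsLocalRing.maximalIdeal (X.presheaf.stalk x₀) := by
    intro a ha
    obtain ⟨b₀, hb₀⟩ := (ConcreteCategory.bijective_of_isIso (f.stalkMap x₀)).surjective (σ a)
    let τ := Y.presheaf.stalkSpecializes (f.continuous.specialization_monotone h)
    have hτ : IsIso τ := by
      have h2 : f x ⤳ f x₀ := specializes_of_eq he.symm
      exact ⟨Y.presheaf.stalkSpecializes h2, by
        simp only [τ, TopCat.Presheaf.stalkSpecializes_comp, TopCat.Presheaf.stalkSpecializes_refl],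
        by simp only [τ, TopCat.Presheaf.stalkSpecializes_comp,
          TopCat.Presheaf.stalkSpecializes_refl]⟩
    obtain ⟨b, rfl⟩ := (ConcreteCategory.bijective_of_isIso τ).surjective b₀
    have hcomm : ∀ c, f.stalkMap x₀ (τ c) = σ (ψ c) := fun c =>
      (f.stalkSpecializes_stalkMap_apply x₀ x h c)
    rw [hcomm] at hb₀
    by_contra hu
    rw [IsLocalRing.mem_maximalIdeal, mem_nonunits_iff, not_not, ← hb₀] at hu
    have hd : σ (ψ b - a) = 0 := by rw [map_sub, hb₀, sub_self]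
    have hb : IsUnit b := by
      rw [← hcomm] at hu
      exact (isUnit_map_iff τ.hom b).mp ((isUnit_map_iff (f.stalkMap x₀).hom _).mp hu)
    have hψb : IsUnit (ψ b) := hb.map ψ.hom
    have hu' : IsUnit (ψ b - a) := by
      by_contra hn
      have h3 := Ideal.add_mem _ ((IsLocalRing.mem_maximalIdeal _).mpr hn) ha
      rw [sub_add_cancel] at h3
      exact (IsLocalRing.mem_maximalIdeal _).mp h3 hψb
    have := hu'.map σ.hom
    rw [hd] at this
    exact not_isUnit_zero this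
  have hlocal : IsLocalHom σ.hom := ⟨fun a ha => by
    by_contra hn
    exact (IsLocalRing.mem_maximalIdeal _).mp
      (hcl a ((IsLocalRing.mem_maximalIdeal _).mpr hn)) ha⟩
  have h1 := congrArg (fun g : Spec (X.presheaf.stalk x₀) ⟶ X => g (IsLocalRing.closedPoint _))
    (Scheme.SpecMap_stalkSpecializes_fromSpecStalk h)
  simp only [Scheme.Hom.comp_apply, Scheme.fromSpecStalk_closedPoint] at h1
  have h2 : Spec.map σ (IsLocalRing.closedPoint (X.presheaf.stalk x₀)) =
      IsLocalRing.closedPoint (X.presheaf.stalk x) := IsLocalRing.comap_closedPoint σ.hom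
  rw [h2, Scheme.fromSpecStalk_closedPoint] at h1
  exact h1.symm

/-- Points over a generic point under a birational morphism. -/
theorem eq_of_base_eq (f : X ⟶ Y)
    (hbij : Set.BijOn (fun x : X => f.base x) {x : X | IsGen x} {y : Y | IsGen y})
    (hiso : ∀ x : X, IsGen x → IsIso (f.stalkMap x)) {x₀ x : X} (hx₀ : IsGen x₀)
    (h : f x = f x₀) : x = x₀ := by
  obtain ⟨η, hη, hηx⟩ := exists_isGen x
  have h1 : f η = f x₀ :=
    IsGen.eq_of_specializes (hbij.mapsTo hx₀) ((hηx.map f.continuous).trans (specializes_of_eq h))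
  obtain rfl : η = x₀ := hbij.injOn hη hx₀ h1
  haveI := hiso η hη
  exact (eq_of_isIso_stalkMap f hηx h.symm).symm

/-- `f` maps `U` isomorphically onto `V`. -/
def OI (f : X ⟶ Y) (U : X.Opens) (V : Y.Opens) : Prop :=
  IsOpenImmersion (U.ι ≫ f) ∧ Set.range (U.ι ≫ f) = (V : Set Y)

theorem OI.le {f : X ⟶ Y} {U : X.Opens} {V : Y.Opens} (h : OI f U V) : U ≤ f ⁻¹ᵁ V := fun x hx => by
  change f x ∈ (V : Set Y)
  rw [← h.2]
  exact ⟨⟨x, hx⟩, by simp⟩

theorem OI.of_isIso {f : X ⟶ Y} {U : X.Opens} {V : Y.Opens} (h : U ≤ f ⁻¹ᵁ V)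
    [IsIso (f.resLE V U h)] : OI f U V := by
  refine ⟨?_, ?_⟩
  · rw [← Scheme.Hom.resLE_comp_ι f h]; infer_instance
  · rw [← Scheme.Hom.resLE_comp_ι f h, Scheme.Hom.comp_base, TopCat.coe_comp, Set.range_comp,
      Set.range_eq_univ.mpr (f.resLE V U h).surjective, Set.image_univ, Scheme.Opens.range_ι]

theorem OI.isIso {f : X ⟶ Y} {U : X.Opens} {V : Y.Opens} (h : OI f U V) :
    IsIso (f.resLE V U h.le) := by
  haveI : IsOpenImmersion (f.resLE V U h.le ≫ V.ι) := by
    rw [Scheme.Hom.resLE_comp_ι]; exact h.1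
  haveI := IsOpenImmersion.of_comp (f.resLE V U h.le) V.ι
  haveI : Surjective (f.resLE V U h.le) := by
    refine ⟨fun v => ?_⟩
    obtain ⟨w, hw⟩ : v.1 ∈ Set.range (U.ι ≫ f) := by rw [h.2]; exact v.2
    refine ⟨w, V.ι.isOpenEmbedding.injective ?_⟩
    rw [← Scheme.Hom.comp_apply, Scheme.Hom.resLE_comp_ι]
    exact hw
  exact (isIso_iff_isOpenImmersion_and_epi_base (f.resLE V U h.le)).mpr
    ⟨inferInstance, (TopCat.epi_iff_surjective _).mpr (f.resLE V U h.le).surjective⟩

theorem OI.shrink {f : X ⟶ Y} {U : X.Opens} {V V' : Y.Opens} (h : OI f U V) (hV : V' ≤ V) :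
    OI f (U ⊓ f ⁻¹ᵁ V') V' := by
  haveI := h.1
  refine ⟨?_, Set.Subset.antisymm ?_ fun v hv => ?_⟩
  · rw [show (U ⊓ f ⁻¹ᵁ V').ι ≫ f = X.homOfLE inf_le_left ≫ U.ι ≫ f by simp]; infer_instance
  · rintro _ ⟨⟨w, hw⟩, rfl⟩
    simpa using hw.2
  · obtain ⟨⟨w, hw⟩, rfl⟩ : v ∈ Set.range (U.ι ≫ f) := by rw [h.2]; exact hV hv
    exact ⟨⟨w, hw, by simpa using hv⟩, by simp⟩

theorem OI.iSup {ι : Type*} {f : X ⟶ Y} {U : ι → X.Opens} {V : ι → Y.Opens}
    (h : ∀ i, OI f (U i) (V i))
    (hdisj : ∀ i j, ∀ y ∈ V i, y ∈ V j → i = j) : OI f (⨆ i, U i) (⨆ i, V i) := by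
  let W := ⨆ i, U i
  have hle : ∀ i, U i ≤ W := le_iSup U
  have hcomp : ∀ i, X.homOfLE (hle i) ≫ W.ι ≫ f = (U i).ι ≫ f := fun i => by simp
  have hpt : ∀ z : W, ∃ i, z.1 ∈ U i := fun z => Opens.mem_iSup.mp z.2
  have hinj : Function.Injective (W.ι ≫ f) := by
    intro a b hab
    obtain ⟨i, hi⟩ := hpt a
    obtain ⟨j, hj⟩ := hpt b
    have hab' : f a.1 = f b.1 := by simpa using hab
    obtain rfl : i = j := hdisj i j (f a.1) ((h i).le hi) (hab' ▸ (h j).le hj)
    haveI := (h i).1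
    have := ((U i).ι ≫ f).isOpenEmbedding.injective (a₁ := ⟨a.1, hi⟩) (a₂ := ⟨b.1, hj⟩)
      (by simpa using hab')
    exact Subtype.ext (congrArg (fun t => t.1) this)
  have hopen : IsOpenMap (W.ι ≫ f) := by
    intro O hO
    have : (W.ι ≫ f) '' O = ⋃ i, ((U i).ι ≫ f) '' ((X.homOfLE (hle i)) ⁻¹' O) := by
      ext y
      constructor
      · rintro ⟨z, hz, rfl⟩
        obtain ⟨i, hi⟩ := hpt z
        have e : X.homOfLE (hle i) ⟨z.1, hi⟩ = z := Subtype.ext (by simp)
        refine Set.mem_iUnion.mpr ⟨i, ⟨z.1, hi⟩, by rw [Set.mem_preimage, e]; exact hz, ?_⟩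
        rw [← hcomp i, Scheme.Hom.comp_apply, e]
      · rw [Set.mem_iUnion]
        rintro ⟨i, z, hz, rfl⟩
        exact ⟨_, hz, by rw [← Scheme.Hom.comp_apply, hcomp]⟩
    rw [this]
    refine isOpen_iUnion fun i => ?_
    haveI := (h i).1
    exact ((U i).ι ≫ f).isOpenEmbedding.isOpenMap _ ((X.homOfLE (hle i)).continuous.isOpen_preimage _ hO)
  refine ⟨?_, ?_⟩
  · haveI : ∀ z, IsIso ((W.ι ≫ f).stalkMap z) := fun z => by
      obtain ⟨i, hi⟩ := hpt z
      haveI := (h i).1
      suffices ∀ w, IsIso ((W.ι ≫ f).stalkMap (X.homOfLE (hle i) w)) by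
        have h1 := this ⟨z.1, hi⟩
        rwa [show X.homOfLE (hle i) ⟨z.1, hi⟩ = z from Subtype.ext (by simp)] at h1
      intro w
      haveI h2 : IsIso ((X.homOfLE (hle i) ≫ W.ι ≫ f).stalkMap w) := by
        rw [Scheme.Hom.stalkMap_congr_hom _ _ (hcomp i)]
        infer_instance
      rw [Scheme.Hom.stalkMap_comp] at h2
      haveI := h2
      exact @IsIso.of_isIso_comp_right _ _ _ _ _ _ ((X.homOfLE (hle i)).stalkMap w) inferInstance h2
    exact IsOpenImmersion.of_isIso_stalkMap _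
      (IsOpenEmbedding.of_continuous_injective_isOpenMap (W.ι ≫ f).continuous hinj hopen)
  · ext y
    constructor
    · rintro ⟨z, rfl⟩
      obtain ⟨i, hi⟩ := hpt z
      exact Opens.mem_iSup.mpr ⟨i, by simpa using (h i).le hi⟩
    · intro hy
      obtain ⟨i, hi⟩ := Opens.mem_iSup.mp hy
      obtain ⟨w, hw⟩ : y ∈ Set.range ((U i).ι ≫ f) := by rw [(h i).2]; exact hi
      exact ⟨X.homOfLE (hle i) w, by rw [← Scheme.Hom.comp_apply, hcomp]; exact hw⟩

/-- Birational morphisms are isomorphisms on dense opens. -/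
theorem exists_OI_dense (f : X ⟶ Y) (hYfin : (irreducibleComponents ↥Y).Finite)
    (hbij : Set.BijOn (fun x : X => f.base x) {x : X | IsGen x} {y : Y | IsGen y})
    (hiso : ∀ x : X, IsGen x → IsIso (f.stalkMap x))
    (hf : (LocallyOfFiniteType f ∧ IsReduced Y) ∨ LocallyOfFinitePresentation f) :
    ∃ (U : X.Opens) (V : Y.Opens), OI f U V ∧ (∀ x, IsGen x → x ∈ U) ∧ (∀ y, IsGen y → y ∈ V) := by
  have key : ∀ x : {x : X // IsGen x}, ∃ (U : X.Opens) (V : Y.Opens), x.1 ∈ U ∧ OI f U V ∧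
      ∀ z ∈ V, ∀ η, IsGen η → η ⤳ z → η = f x.1 := by
    rintro ⟨x, hx⟩
    haveI := hiso x hx
    obtain ⟨U, V, hUV, hxU, hi⟩ : ∃ (U' : X.Opens) (V' : Y.Opens) (h : U' ≤ f ⁻¹ᵁ V'),
        x ∈ U' ∧ IsIso (f.resLE V' U' h) := by
      rcases hf with ⟨_, _⟩ | _
      · haveI := isGermInjectiveAt_of_isGen hYfin (hbij.mapsTo hx : IsGen (f x))
        exact Spread.exists_isIso_resLE_of_lft f x
      · exact Spread.exists_isIso_resLE_of_lfp f x
    obtain ⟨N, hN, hN'⟩ := exists_nhd_unique_gen hYfin (hbij.mapsTo hx : IsGen (f x))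
    exact ⟨U ⊓ f ⁻¹ᵁ (V ⊓ N), V ⊓ N, ⟨hxU, hUV hxU, hN⟩, (OI.of_isIso hUV).shrink inf_le_left,
      fun z hz => hN' z hz.2⟩
  choose U V hxU hOI huniq using key
  refine ⟨⨆ i, U i, ⨆ i, V i, OI.iSup hOI fun i j y hi hj => ?_,
    fun x hx => Opens.mem_iSup.mpr ⟨⟨x, hx⟩, hxU ⟨x, hx⟩⟩, fun y hy => ?_⟩
  · obtain ⟨η, hη, hηy⟩ := exists_isGen y
    exact Subtype.ext (hbij.injOn i.2 j.2
      ((huniq i y hi η hη hηy).symm.trans (huniq j y hj η hη hηy)))
  · obtain ⟨x, hx, rfl⟩ := hbij.surjOn hy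
    exact Opens.mem_iSup.mpr ⟨⟨x, hx⟩, (hOI ⟨x, hx⟩).le (hxU ⟨x, hx⟩)⟩

theorem flat_fromSpecStalk (X : Scheme.{u}) (x : X) : Flat (X.fromSpecStalk x) := by
  obtain ⟨U, hU, hxU, -⟩ := exists_isAffineOpen_mem_and_subset (X := X) (x := x) (U := ⊤) trivial
  rw [← hU.fromSpecStalk_eq_fromSpecStalk hxU, IsAffineOpen.fromSpecStalk]
  haveI : Flat (Spec.map (X.presheaf.germ U x hxU)) := by
    rw [Flat.SpecMap_iff]
    letI : Algebra Γ(X, U) (X.presheaf.stalk x) := (X.presheaf.germ U x hxU).hom.toAlgebra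
    haveI := hU.isLocalization_stalk ⟨x, hxU⟩
    exact RingHom.flat_algebraMap_iff.mpr
      (IsLocalization.flat (X.presheaf.stalk x) (hU.primeIdealOf ⟨x, hxU⟩).asIdeal.primeCompl)
  infer_instance

theorem isIso_stalkMap_of_flat_preimmersion (f : X ⟶ Y) [Flat f] [IsPreimmersion f] (x : X) :
    IsIso (f.stalkMap x) := by
  refine (ConcreteCategory.isIso_iff_bijective _).mpr ⟨?_, f.stalkMap_surjective x⟩
  algebraize [(f.stalkMap x).hom]
  have : Module.FaithfullyFlat (Y.presheaf.stalk (f x)) (X.presheaf.stalk x) :=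
    @Module.FaithfullyFlat.of_flat_of_isLocalHom _ _ _ _ _ _ _
      (Flat.stalkMap f x) (f.toLRSHom.prop x)
  exact ‹RingHom.FaithfullyFlat _›.injective

/-- Base change of a birational morphism to the local ring at a generic point. -/
theorem isIso_snd (f : X ⟶ Y)
    (hbij : Set.BijOn (fun x : X => f.base x) {x : X | IsGen x} {y : Y | IsGen y})
    (hiso : ∀ x : X, IsGen x → IsIso (f.stalkMap x)) {y : Y} (hy : IsGen y) :
    IsIso (pullback.snd f (Y.fromSpecStalk y)) := by
  obtain ⟨x₀, hx₀, hfx₀⟩ := hbij.surjOn hy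
  let j := Y.fromSpecStalk y
  let p₁ := pullback.fst f j
  let p₂ := pullback.snd f j
  have hj : ∀ t, j t = y := fun t => hy.eq_of_specializes (by
    have : j t ∈ Set.range j := ⟨t, rfl⟩
    rw [Scheme.range_fromSpecStalk] at this
    exact this)
  have hp : ∀ z, p₁ z = x₀ := fun z => eq_of_base_eq f hbij hiso hx₀ (by
    rw [← Scheme.Hom.comp_apply, pullback.condition, Scheme.Hom.comp_apply, hj, ← hfx₀])
  haveI : Flat j := flat_fromSpecStalk Y y
  haveI : IsPreimmersion p₁ := MorphismProperty.pullback_fst _ _ inferInstance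
  have hsP : Subsingleton (pullback f j : Scheme.{u}) :=
    ⟨fun a b => p₁.isEmbedding.injective ((hp a).trans (hp b).symm)⟩
  have hsS : Subsingleton (Spec (Y.presheaf.stalk y)) :=
    ⟨fun a b => (Y.fromSpecStalk y).isEmbedding.injective ((hj a).trans (hj b).symm)⟩
  obtain ⟨z₀, -, -⟩ := Scheme.Pullback.exists_preimage_pullback (f := f) (g := j) x₀
    (IsLocalRing.closedPoint _) (by rw [Scheme.fromSpecStalk_closedPoint]; exact hfx₀)
  haveI : ∀ z, IsIso (p₂.stalkMap z) := fun z => by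
    have i1 := isIso_stalkMap_of_flat_preimmersion p₁ z
    have i2 : IsIso (f.stalkMap (p₁ z)) := hiso _ (by rw [hp]; exact hx₀)
    have h1 : IsIso ((p₁ ≫ f).stalkMap z) := by
      rw [Scheme.Hom.stalkMap_comp]
      exact @IsIso.comp_isIso _ _ _ _ _ _ _ i2 i1
    haveI : IsIso (j.stalkMap (p₂ z)) := isIso_stalkMap_of_flat_preimmersion j _
    have h2 : IsIso ((p₂ ≫ j).stalkMap z) := by
      rw [Scheme.Hom.stalkMap_congr_hom _ _ (pullback.condition (f := f) (g := j)).symm]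
      infer_instance
    rw [Scheme.Hom.stalkMap_comp] at h2
    haveI := h2
    exact @IsIso.of_isIso_comp_left _ _ _ _ _ (j.stalkMap (p₂ z)) (p₂.stalkMap z) ‹_› h2
  haveI : IsOpenImmersion p₂ := IsOpenImmersion.of_isIso_stalkMap _
    (IsOpenEmbedding.of_continuous_injective_isOpenMap p₂.continuous
      (fun a b _ => hsP.elim a b) fun O _ => by
        rcases O.eq_empty_or_nonempty with rfl | ⟨o, ho⟩
        · simp
        · rw [show p₂ '' O = Set.univ from Set.eq_univ_of_forall fun s => ⟨o, ho, hsS.elim _ _⟩]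
          exact isOpen_univ)
  exact (isIso_iff_isOpenImmersion_and_epi_base p₂).mpr ⟨inferInstance,
    (TopCat.epi_iff_surjective _).mpr fun s => ⟨z₀, hsS.elim _ _⟩⟩

end Groth.Agent.H75.Birat
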