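import Groth.Agent.H75.Birat.FiniteNhdRing
import Groth.Agent.H75.Birat.Gen
import Mathlib.AlgebraicGeometry.Morphisms.Finite
import Mathlib.AlgebraicGeometry.Limits

/-!
Finiteness near a generic point of the target.
-/

universe u

open CategoryTheory AlgebraicGeometry TopologicalSpace

namespace Groth.Agent.H75.Birat

variable {X Y : Scheme.{u}}

theorem isFinite_resLE_iff (f : X ⟶ Y) {U : X.Opens} {V : Y.Opens} (hU : IsAffineOpen U)
    (hV : IsAffineOpen V) (e : U ≤ f ⁻¹ᵁ V) :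
    IsFinite (f.resLE V U e) ↔ (f.appLE V U e).hom.Finite := by
  haveI : IsAffine U := hU
  haveI : IsAffine V := hV
  rw [HasAffineProperty.iff_of_isAffine (P := @IsFinite), and_iff_right (show IsAffine U from hU),
    RingHom.finite_respectsIso.arrow_mk_iso_iff (arrowResLEAppIso f V U e)]

theorem isGen_primeIdealOf {V : Y.Opens} (hV : IsAffineOpen V) {η : Y} (hη : IsGen η) (h : η ∈ V) :
    (hV.primeIdealOf ⟨η, h⟩).asIdeal ∈ minimalPrimes Γ(Y, V) := by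
  refine ⟨⟨(hV.primeIdealOf ⟨η, h⟩).isPrime, bot_le⟩, fun q hq hle => ?_⟩
  let z : Spec Γ(Y, V) := ⟨q, hq.1⟩
  have h1 : z ⤳ hV.primeIdealOf ⟨η, h⟩ := (PrimeSpectrum.le_iff_specializes _ _).mp hle
  have h2 := h1.map hV.fromSpec.continuous
  rw [hV.fromSpec_primeIdealOf] at h2
  have h3 : z = hV.primeIdealOf ⟨η, h⟩ := hV.fromSpec.isOpenEmbedding.injective (by
    rw [hV.fromSpec_primeIdealOf]; exact hη.eq_of_specializes h2)
  exact (congrArg PrimeSpectrum.asIdeal h3).ge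

/-- Finiteness over a basic neighbourhood of a generic point, for one affine chart. -/
theorem exists_finite_nhd (f : X ⟶ Y) [LocallyOfFiniteType f] {η : Y} (hη : IsGen η)
    {U : X.Opens} (hU : IsAffineOpen U) {V : Y.Opens} (hV : IsAffineOpen V) (hUV : U ≤ f ⁻¹ᵁ V)
    (hηV : η ∈ V) (hfin : {x : X | x ∈ U ∧ f x = η}.Finite) :
    ∃ V' : Y.Opens, η ∈ V' ∧ V' ≤ V ∧ ∀ r : Γ(Y, V), Y.basicOpen r ≤ V' →
      IsAffineOpen (U ⊓ f ⁻¹ᵁ Y.basicOpen r) ∧
        IsFinite (f.resLE (Y.basicOpen r) (U ⊓ f ⁻¹ᵁ Y.basicOpen r) inf_le_right) := by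
  let φ := (f.appLE V U hUV).hom
  letI := φ.toAlgebra
  haveI : Algebra.FiniteType Γ(Y, V) Γ(X, U) := f.finiteType_appLE hV hU hUV
  have hcomm : ∀ q, hV.fromSpec (PrimeSpectrum.comap φ q) = f (hU.fromSpec q) := fun q => by
    have := congrArg (fun g => g q) (IsAffineOpen.SpecMap_appLE_fromSpec f hV hU hUV)
    simp only [Scheme.Hom.comp_apply] at this
    exact this
  have hfinp : (PrimeSpectrum.comap (algebraMap Γ(Y, V) Γ(X, U)) ⁻¹'
      {(⟨(hV.primeIdealOf ⟨η, hηV⟩).asIdeal, (hV.primeIdealOf ⟨η, hηV⟩).isPrime⟩ :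
        PrimeSpectrum Γ(Y, V))}).Finite := by
    refine Set.Finite.of_finite_image (f := hU.fromSpec) (hfin.subset ?_)
      hU.fromSpec.isOpenEmbedding.injective.injOn
    rintro _ ⟨q, hq, rfl⟩
    refine ⟨?_, ?_⟩
    · rw [← SetLike.mem_coe, ← hU.range_fromSpec]; exact ⟨q, rfl⟩
    · rw [← hcomm]
      have hq' : PrimeSpectrum.comap φ q = hV.primeIdealOf ⟨η, hηV⟩ := hq
      rw [hq', hV.fromSpec_primeIdealOf]
  obtain ⟨s, hs, hfinite⟩ := exists_finite_away (A := Γ(Y, V)) (B := Γ(X, U))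
    (hV.primeIdealOf ⟨η, hηV⟩).asIdeal (isGen_primeIdealOf hV hη hηV) hfinp
  have hηs : η ∈ Y.basicOpen s := by
    have h1 : hV.fromSpec (hV.primeIdealOf ⟨η, hηV⟩) ∈ Y.basicOpen s :=
      (hV.fromSpec_preimage_basicOpen s).ge hs
    rwa [hV.fromSpec_primeIdealOf] at h1
  -- finite over `D(s)`
  have key : IsAffineOpen (U ⊓ f ⁻¹ᵁ Y.basicOpen s) ∧
      IsFinite (f.resLE (Y.basicOpen s) (U ⊓ f ⁻¹ᵁ Y.basicOpen s) inf_le_right) := by
    have hopen : U ⊓ f ⁻¹ᵁ Y.basicOpen s = X.basicOpen (φ s) := by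
      simp only [φ, Scheme.Hom.appLE, CommRingCat.hom_comp, RingHom.comp_apply,
        Scheme.basicOpen_res, Scheme.preimage_basicOpen]
    refine ⟨hopen ▸ hU.basicOpen (φ s), ?_⟩
    have e : X.basicOpen (φ s) ≤ f ⁻¹ᵁ Y.basicOpen s := hopen ▸ inf_le_right
    suffices IsFinite (f.resLE (Y.basicOpen s) (X.basicOpen (φ s)) e) from
      (f.resLE_congr inf_le_right rfl hopen @IsFinite).mpr this
    rw [isFinite_resLE_iff f (hU.basicOpen _) (hV.basicOpen s)]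
    haveI := hV.isLocalization_basicOpen s
    haveI := hU.isLocalization_basicOpen (φ s)
    haveI : IsLocalization.Away (algebraMap Γ(Y, V) Γ(X, U) s) Γ(X, X.basicOpen (φ s)) := this
    refine hfinite Γ(Y, Y.basicOpen s) Γ(X, X.basicOpen (φ s)) _ ?_
    change ((Y.presheaf.map (homOfLE (Y.basicOpen_le s)).op) ≫ f.appLE _ _ e).hom =
      (f.appLE V U hUV ≫ X.presheaf.map (homOfLE (X.basicOpen_le (φ s))).op).hom
    rw [Scheme.Hom.map_appLE, Scheme.Hom.appLE_map]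
  refine ⟨Y.basicOpen s, hηs, Y.basicOpen_le s, fun r hr => ?_⟩
  obtain ⟨haff, hFin⟩ := key
  let W := U ⊓ f ⁻¹ᵁ Y.basicOpen s
  have hW : W ≤ f ⁻¹ᵁ Y.basicOpen s := inf_le_right
  have heq : U ⊓ f ⁻¹ᵁ Y.basicOpen r = W ⊓ f ⁻¹ᵁ Y.basicOpen r :=
    le_antisymm (le_inf (le_inf inf_le_left (inf_le_right.trans (f.preimage_mono hr))) inf_le_right)
      (le_inf (inf_le_left.trans inf_le_left) inf_le_right)
  haveI : IsAffine (Y.basicOpen s) := hV.basicOpen s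
  let g := f.resLE (Y.basicOpen s) W hW
  let O : (Y.basicOpen s).toScheme.Opens := (Y.basicOpen s).ι ⁻¹ᵁ Y.basicOpen r
  haveI : IsFinite (g ∣_ O) := IsZariskiLocalAtTarget.restrict hFin O
  have hOimg : (Y.basicOpen s).ι ''ᵁ O = Y.basicOpen r := by
    rw [Scheme.Hom.image_preimage_eq_opensRange_inf, Scheme.Opens.opensRange_ι, inf_eq_right]
    exact hr
  have hgimg : W.ι ''ᵁ (g ⁻¹ᵁ O) = W ⊓ f ⁻¹ᵁ Y.basicOpen r := by
    rw [Scheme.Hom.resLE_preimage, Scheme.Hom.image_preimage_eq_opensRange_inf,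
      Scheme.Opens.opensRange_ι, hOimg]
  have haff' : IsAffineOpen (W ⊓ f ⁻¹ᵁ Y.basicOpen r) := by
    haveI : IsAffine W := haff
    haveI : IsAffineHom g := inferInstance
    rw [← hgimg]
    exact ((isAffineOpen_preimage_iff_aux hV s r hr).preimage g).image_of_isOpenImmersion _
  refine ⟨heq ▸ haff', ?_⟩
  rw [isFinite_resLE_iff f (heq ▸ haff') (hV.basicOpen r)]
  have hgO : (g.app O).hom.Finite := g.finite_app O (isAffineOpen_preimage_iff_aux hV s r hr)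
  rw [Scheme.Hom.app_eq_appLE, Scheme.Hom.resLE_appLE] at hgO
  have : ∀ (V₁ V₂ : Y.Opens) (U₁ U₂ : X.Opens) (e₁ : U₁ ≤ f ⁻¹ᵁ V₁) (e₂ : U₂ ≤ f ⁻¹ᵁ V₂),
      V₁ = V₂ → U₁ = U₂ → (f.appLE V₁ U₁ e₁).hom.Finite → (f.appLE V₂ U₂ e₂).hom.Finite := by
    rintro V₁ V₂ U₁ U₂ e₁ e₂ rfl rfl h
    exact h
  exact this _ _ _ _ _ _ hOimg (hgimg.trans heq.symm) hgO
where
  isAffineOpen_preimage_iff_aux {Y : Scheme.{u}} {V : Y.Opens} (hV : IsAffineOpen V) (s r : Γ(Y, V))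
      (hr : Y.basicOpen r ≤ Y.basicOpen s) :
      IsAffineOpen ((Y.basicOpen s).ι ⁻¹ᵁ Y.basicOpen r) :=
    (hV.basicOpen r).preimage_of_isOpenImmersion _ (by rw [Scheme.Opens.opensRange_ι]; exact hr)

/-- Glue finitely many disjoint opens finite over the same affine. -/
theorem isFinite_restrict_of_disjoint (f : X ⟶ Y) [LocallyOfFiniteType f] {V : Y.Opens}
    (hV : IsAffineOpen V) {ι : Type*} [Finite ι] (U : ι → X.Opens)
    (hU : ∀ i, U i ≤ f ⁻¹ᵁ V) (hcov : f ⁻¹ᵁ V ≤ ⨆ i, U i)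
    (hdisj : Pairwise (fun i j => Disjoint (U i) (U j))) (haff : ∀ i, IsAffineOpen (U i))
    (hfin : ∀ i, IsFinite (f.resLE V (U i) (hU i))) : IsFinite (f ∣_ V) := by
  classical
  cases nonempty_fintype ι
  have heq : f ⁻¹ᵁ V = ⨆ i, U i := le_antisymm hcov (iSup_le hU)
  have hA : IsAffineOpen (f ⁻¹ᵁ V) := heq ▸ IsAffineOpen.iSup_of_disjoint haff hdisj
  rw [← Scheme.Hom.resLE_eq_morphismRestrict, isFinite_resLE_iff f hA hV]
  refine RingHom.finite_iff_isIntegral_and_finiteType.mpr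
    ⟨fun x => ?_, f.finiteType_appLE hV hA le_rfl⟩
  have h1 : ∀ i, ∃ P : Polynomial Γ(Y, V), P.Monic ∧
      P.eval₂ (f.appLE V (U i) (hU i)).hom (X.presheaf.map (homOfLE (hU i)).op x) = 0 := fun i =>
    ((isFinite_resLE_iff f (haff i) hV (hU i)).mp (hfin i)).to_isIntegral _
  choose P hP hPx using h1
  refine ⟨∏ i, P i, Polynomial.monic_prod_of_monic _ _ fun i _ => hP i, ?_⟩
  refine TopCat.Sheaf.eq_of_locally_eq' X.sheaf U _ (fun i => homOfLE (hU i)) hcov _ _ fun i => ?_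
  change (X.presheaf.map (homOfLE (hU i)).op).hom _ = (X.presheaf.map (homOfLE (hU i)).op).hom 0
  rw [map_zero, Polynomial.hom_eval₂, ← CommRingCat.hom_comp, Scheme.Hom.appLE_map,
    Polynomial.eval₂_finsetProd]
  exact Finset.prod_eq_zero (Finset.mem_univ i) (hPx i)

end Groth.Agent.H75.Birat
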