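import Groth.Agent.H75.Birat.FiniteNhd
import Groth.Agent.H46.QFin
import Mathlib.AlgebraicGeometry.Morphisms.QuasiFinite
import Mathlib.AlgebraicGeometry.Morphisms.QuasiSeparated
import Mathlib.AlgebraicGeometry.Morphisms.Proper

/-!
Points in the fibre over a generic point; finiteness over a dense open.
-/

universe u

open CategoryTheory AlgebraicGeometry TopologicalSpace

namespace Groth.Agent.H75.Birat

open Groth.Agent.H46

variable {X Y : Scheme.{u}}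

theorem fiber_eq_of_specializes {f : X ⟶ Y} {x z : X} (h : f z = f x) (hs : z ⤳ x) :
    ∃ z' : f.fiber (f x), f.fiberι (f x) z' = z ∧ z' ⤳ f.asFiber x := by
  obtain ⟨z', hz'⟩ : z ∈ Set.range (f.fiberι (f x)) := by rw [f.range_fiberι]; exact h
  refine ⟨z', hz', (f.fiberι (f x)).isEmbedding.isInducing.specializes_iff.mp ?_⟩
  rw [hz', f.fiberι_asFiber]
  exact hs

/-- A quasi-finite point has no generization in its fibre. -/
theorem eq_of_quasiFiniteAt_generization (f : X ⟶ Y) [LocallyOfFiniteType f] {x z : X}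
    (hx : f.QuasiFiniteAt x) (h : f z = f x) (hs : z ⤳ x) : z = x := by
  obtain ⟨z', rfl, hz'⟩ := fiber_eq_of_specializes h hs
  rw [((QFin.quasiFiniteAt_iff f x).mp hx).2 z' hz', f.fiberι_asFiber]

/-- A point closed in its fibre has no specialization in its fibre. -/
theorem eq_of_isClosed_asFiber_specialization (f : X ⟶ Y) {x z : X}
    (hx : IsClosed ({f.asFiber x} : Set ↑(f.fiber (f x)))) (h : f z = f x) (hs : x ⤳ z) : z = x := by
  obtain ⟨z', hz'⟩ : z ∈ Set.range (f.fiberι (f x)) := by rw [f.range_fiberι]; exact h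
  have h1 : f.asFiber x ⤳ z' := (f.fiberι (f x)).isEmbedding.isInducing.specializes_iff.mp
    (by rw [hz', f.fiberι_asFiber]; exact hs)
  rw [← hz', h1.mem_closed hx rfl, f.fiberι_asFiber]

theorem isClosed_asFiber_of_forall (f : X ⟶ Y) {x : X}
    (h : ∀ z, f z = f x → z ⤳ z → x ⤳ z → z = x) :
    IsClosed ({f.asFiber x} : Set ↑(f.fiber (f x))) := by
  rw [← closure_subset_iff_isClosed]
  intro z' hz'
  have hs := (specializes_iff_mem_closure.mpr hz').map (f.fiberι (f x)).continuous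
  rw [f.fiberι_asFiber] at hs
  have hf : f (f.fiberι (f x) z') = f x := by
    have : f.fiberι (f x) z' ∈ f ⁻¹' {f x} := f.range_fiberι (f x) ▸ ⟨z', rfl⟩
    exact this
  exact (f.fiberι (f x)).isEmbedding.injective
    ((h _ hf specializes_rfl hs).trans (f.fiberι_asFiber x).symm)

theorem quasiFiniteAt_of_all_gen (f : X ⟶ Y) [LocallyOfFiniteType f] {x : X} (hx : IsGen x)
    (h : ∀ z, f z = f x → IsGen z) : f.QuasiFiniteAt x := by
  refine (QFin.quasiFiniteAt_iff f x).mpr ⟨isClosed_asFiber_of_forall f fun z hz _ hxz =>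
    ((h z hz).eq_of_specializes hxz).symm, fun z' hz' => ?_⟩
  have hs := hz'.map (f.fiberι (f x)).continuous
  rw [f.fiberι_asFiber] at hs
  exact (f.fiberι (f x)).isEmbedding.injective
    ((hx.eq_of_specializes hs).trans (f.fiberι_asFiber x).symm)

theorem finite_preimage_of_isFinite_restrict (f : X ⟶ Y) {V : Y.Opens} {η : Y} (hη : η ∈ V)
    [IsFinite (f ∣_ V)] : (f ⁻¹' {η}).Finite := by
  have hfin := Scheme.Hom.finite_preimage_singleton (f ∣_ V) ⟨η, hη⟩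
  refine (hfin.image (f ⁻¹ᵁ V).ι).subset ?_
  intro x hx
  have hxV : x ∈ f ⁻¹ᵁ V := by
    change f x ∈ V
    rw [show f x = η from hx]; exact hη
  refine ⟨⟨x, hxV⟩, ?_, rfl⟩
  exact Subtype.ext (by simpa [morphismRestrict_base] using hx)

/-- The basic construction: finitely many affine charts, one for each point over `η`. -/
theorem exists_charts (f : X ⟶ Y) [LocallyOfFiniteType f] {η : Y} (hη : IsGen η)
    (hfin : (f ⁻¹' {η}).Finite) {V : Y.Opens} (hV : IsAffineOpen V) (hηV : η ∈ V) :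
    ∃ (U : (f ⁻¹' {η} : Set X) → X.Opens) (V' : Y.Opens),
      (∀ x, x.1 ∈ U x ∧ ∀ z ∈ U x, f z = η → z = x.1) ∧ (∀ x, IsAffineOpen (U x) ∧ U x ≤ f ⁻¹ᵁ V) ∧
      η ∈ V' ∧ V' ≤ V ∧ ∀ x, ∀ r : Γ(Y, V), Y.basicOpen r ≤ V' →
        IsAffineOpen (U x ⊓ f ⁻¹ᵁ Y.basicOpen r) ∧
        IsFinite (f.resLE (Y.basicOpen r) (U x ⊓ f ⁻¹ᵁ Y.basicOpen r) inf_le_right) := by
  classical
  haveI := hfin.to_subtype
  have hbasic : ∀ (W : Y.Opens), η ∈ W → ∃ r : Γ(Y, V), Y.basicOpen r ≤ W ∧ η ∈ Y.basicOpen r :=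
    fun W hW => hV.exists_basicOpen_le ⟨η, hW⟩ hηV
  -- the fibre has no specializations
  have hdisc : ∀ x z : X, f x = η → f z = η → x ⤳ z → x = z := by
    intro x z hx hz hxz
    obtain ⟨U₀, hU₀, hzU₀, hU₀V⟩ := exists_isAffineOpen_mem_and_subset (X := X) (x := z)
      (U := f ⁻¹ᵁ V) (by change f z ∈ V; rw [hz]; exact hηV)
    obtain ⟨V₀, hηV₀, -, hV₀⟩ := exists_finite_nhd f hη hU₀ hV hU₀V hηV (hfin.subset fun a ha => ha.2)
    obtain ⟨r, hr, hηr⟩ := hbasic V₀ hηV₀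
    obtain ⟨-, hF⟩ := hV₀ r hr
    let W := U₀ ⊓ f ⁻¹ᵁ Y.basicOpen r
    have hzW : z ∈ W := ⟨hzU₀, by change f z ∈ Y.basicOpen r; rw [hz]; exact hηr⟩
    have hxW : x ∈ W := hxz.mem_open W.2 hzW
    let g := f.resLE (Y.basicOpen r) W inf_le_right
    have hdiscrete := g.isDiscrete_preimage_singleton ⟨η, hηr⟩
    have hxg : (⟨x, hxW⟩ : W.toScheme) ∈ g ⁻¹' {⟨η, hηr⟩} := Subtype.ext (by simpa [g] using hx)
    have hzg : (⟨z, hzW⟩ : W.toScheme) ∈ g ⁻¹' {⟨η, hηr⟩} := Subtype.ext (by simpa [g] using hz)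
    have hs : (⟨x, hxW⟩ : W.toScheme) ⤳ ⟨z, hzW⟩ :=
      W.ι.isOpenEmbedding.isInducing.specializes_iff.mp hxz
    haveI := hdiscrete.to_subtype
    have hs' : (⟨⟨x, hxW⟩, hxg⟩ : (g ⁻¹' {⟨η, hηr⟩} : Set W.toScheme)) ⤳ ⟨⟨z, hzW⟩, hzg⟩ :=
      (Topology.IsInducing.subtypeVal.specializes_iff).mp hs
    let pz : (g ⁻¹' {⟨η, hηr⟩} : Set W.toScheme) := ⟨⟨z, hzW⟩, hzg⟩
    exact congrArg (fun a => a.1.1) (Set.eq_of_mem_singleton
      (hs'.mem_open (isOpen_discrete ({pz} : Set _)) (Set.mem_singleton pz)))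
  have hchart : ∀ x : (f ⁻¹' {η} : Set X), ∃ U : X.Opens, IsAffineOpen U ∧ x.1 ∈ U ∧
      U ≤ f ⁻¹ᵁ V ∧ ∀ z ∈ U, f z = η → z = x.1 := by
    rintro ⟨x, hx⟩
    let C : Set X := ⋃ z ∈ (f ⁻¹' {η}) \ {x}, closure {z}
    have hC : IsClosed C := (hfin.subset Set.sdiff_subset).isClosed_biUnion fun z _ => isClosed_closure
    have hxC : x ∉ C := by
      simp only [C, Set.mem_iUnion]
      rintro ⟨z, ⟨hz, hne⟩, h⟩
      exact hne (hdisc z x hz hx (specializes_iff_mem_closure.mpr h))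
    obtain ⟨U, hU, hxU, hUle⟩ := exists_isAffineOpen_mem_and_subset (X := X) (x := x)
      (U := f ⁻¹ᵁ V ⊓ ⟨Cᶜ, hC.isOpen_compl⟩) ⟨by change f x ∈ V; rw [show f x = η from hx]; exact hηV, hxC⟩
    refine ⟨U, hU, hxU, fun z hz => (hUle hz).1, fun z hz hfz => ?_⟩
    by_contra hne
    exact (hUle hz).2 (Set.mem_biUnion ⟨hfz, hne⟩ (subset_closure rfl))
  choose U hUaff hxU hUV huniq using hchart
  choose V₁ hηV₁ hV₁V hfin₁ using fun x => exists_finite_nhd f hη (hUaff x) hV (hUV x) hηV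
    ((hfin.subset fun a ha => ha.2))
  cases nonempty_fintype (f ⁻¹' {η} : Set X)
  refine ⟨U, V ⊓ Finset.univ.inf V₁, fun x => ⟨hxU x, huniq x⟩, fun x => ⟨hUaff x, hUV x⟩, ?_,
    inf_le_left, fun x r hr => hfin₁ x r
      (hr.trans (inf_le_right.trans (Finset.inf_le (Finset.mem_univ x))))⟩
  refine ⟨hηV, ?_⟩
  rw [Opens.coe_finset_inf]
  simpa using fun x hx => hηV₁ ⟨x, hx⟩

/-- If the charts cover and are disjoint over a neighbourhood of `η`, the morphism is finite over a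
neighbourhood of `η`. -/
theorem exists_isFinite_restrict (f : X ⟶ Y) [LocallyOfFiniteType f] {η : Y} (hη : IsGen η)
    (hfin : (f ⁻¹' {η}).Finite) {V : Y.Opens} (hV : IsAffineOpen V) (hηV : η ∈ V)
    (hnhd : ∀ W : X.Opens, (∀ x, f x = η → x ∈ W) → W ≤ f ⁻¹ᵁ V →
      ∃ V₂ : Y.Opens, η ∈ V₂ ∧ f ⁻¹ᵁ V₂ ≤ W)
    (hsep : ∀ U U' : X.Opens, IsAffineOpen U → IsAffineOpen U' → U ≤ f ⁻¹ᵁ V → U' ≤ f ⁻¹ᵁ V →
      (∀ z ∈ U ⊓ U', f z ≠ η) → ∃ V₃ : Y.Opens, η ∈ V₃ ∧ ∀ z ∈ U ⊓ U', f z ∉ V₃) :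
    ∃ V' : Y.Opens, IsAffineOpen V' ∧ η ∈ V' ∧ V' ≤ V ∧ IsFinite (f ∣_ V') := by
  classical
  obtain ⟨U, V₁, hU, hUaff, hηV₁, hV₁V, hF⟩ := exists_charts f hη hfin hV hηV
  haveI := hfin.to_subtype
  obtain ⟨V₂, hηV₂, hV₂⟩ := hnhd (⨆ x, U x)
    (fun x hx => Opens.mem_iSup.mpr ⟨⟨x, hx⟩, (hU ⟨x, hx⟩).1⟩) (iSup_le fun x => (hUaff x).2)
  have h3 : ∀ q : (f ⁻¹' {η} : Set X) × (f ⁻¹' {η} : Set X), ∃ V₃ : Y.Opens, η ∈ V₃ ∧
      (q.1 ≠ q.2 → ∀ z ∈ U q.1 ⊓ U q.2, f z ∉ V₃) := by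
    intro q
    by_cases hne : q.1 = q.2
    · exact ⟨⊤, trivial, fun h => (h hne).elim⟩
    · obtain ⟨V₃, h₁, h₂⟩ := hsep (U q.1) (U q.2) (hUaff _).1 (hUaff _).1 (hUaff _).2 (hUaff _).2
        fun z hz hfz => hne (Subtype.ext (((hU q.1).2 z hz.1 hfz).symm.trans ((hU q.2).2 z hz.2 hfz)))
      exact ⟨V₃, h₁, fun _ => h₂⟩
  choose V₃ hηV₃ hV₃ using h3
  cases nonempty_fintype (f ⁻¹' {η} : Set X)
  let W : Y.Opens := V₁ ⊓ V₂ ⊓ Finset.univ.inf V₃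
  have hηW : η ∈ W := by
    refine ⟨⟨hηV₁, hηV₂⟩, ?_⟩
    rw [Opens.coe_finset_inf]
    simpa using fun a ha b hb => hηV₃ (⟨a, ha⟩, ⟨b, hb⟩)
  obtain ⟨r, hr, hηr⟩ := hV.exists_basicOpen_le ⟨η, hηW⟩ hηV
  refine ⟨Y.basicOpen r, hV.basicOpen r, hηr, Y.basicOpen_le r, ?_⟩
  have hr1 : Y.basicOpen r ≤ V₁ := hr.trans (inf_le_left.trans inf_le_left)
  refine isFinite_restrict_of_disjoint f (hV.basicOpen r) (fun x => U x ⊓ f ⁻¹ᵁ Y.basicOpen r)
    (fun x => inf_le_right) (fun z hz => ?_) (fun x y hxy => ?_) (fun x => (hF x r hr1).1)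
    (fun x => (hF x r hr1).2)
  · obtain ⟨x, hx⟩ := Opens.mem_iSup.mp (hV₂ ((hr hz).1.2 : f z ∈ V₂))
    exact Opens.mem_iSup.mpr ⟨x, hx, hz⟩
  · change Disjoint _ _
    rw [disjoint_iff]
    refine eq_bot_iff.mpr fun z hz => ?_
    exact (hV₃ (x, y) hxy z ⟨hz.1.1, hz.2.1⟩
      (Finset.inf_le (f := V₃) (Finset.mem_univ (x, y)) (hr hz.1.2).2)).elim

theorem exists_nhd_of_quasiCompact (f : X ⟶ Y) [QuasiCompact f] {η : Y} (hη : IsGen η) (W : X.Opens)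
    (hW : ∀ x, f x = η → x ∈ W) : ∃ V₂ : Y.Opens, η ∈ V₂ ∧ f ⁻¹ᵁ V₂ ≤ W := by
  let Z : Closeds X := ⟨(W : Set X)ᶜ, W.2.isClosed_compl⟩
  let i := (Scheme.IdealSheafData.vanishingIdeal Z).subschemeι
  have hi : Set.range i = (W : Set X)ᶜ := by
    rw [Scheme.IdealSheafData.range_subschemeι, Scheme.IdealSheafData.coe_support_vanishingIdeal]
    rfl
  refine ⟨⟨(closure (Set.range (i ≫ f)))ᶜ, isClosed_closure.isOpen_compl⟩, fun hc => ?_, fun z hz => ?_⟩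
  · obtain ⟨w, hw⟩ := Lib.SchTopo.Closure.mem_range_of_mem_closure_range (i ≫ f) hη hc
    rw [Scheme.Hom.comp_apply] at hw
    have hmem : i w ∈ (W : Set X)ᶜ := hi ▸ ⟨w, rfl⟩
    exact hmem (hW _ hw)
  · by_contra hzW
    obtain ⟨w, rfl⟩ : z ∈ Set.range i := by rw [hi]; exact hzW
    exact hz (subset_closure ⟨w, Scheme.Hom.comp_apply i f w⟩)

theorem exists_sep_of_quasiSeparated (f : X ⟶ Y) [QuasiSeparated f] {η : Y} (hη : IsGen η)
    {V : Y.Opens} (hV : IsAffineOpen V) (hηV : η ∈ V) (U U' : X.Opens) (hU : IsAffineOpen U)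
    (hU' : IsAffineOpen U') (h : U ≤ f ⁻¹ᵁ V) (h' : U' ≤ f ⁻¹ᵁ V) (hne : ∀ z ∈ U ⊓ U', f z ≠ η) :
    ∃ V₃ : Y.Opens, η ∈ V₃ ∧ ∀ z ∈ U ⊓ U', f z ∉ V₃ := by
  have hq : IsQuasiSeparated ((f ⁻¹ᵁ V : X.Opens) : Set X) := by
    haveI : IsAffine V := hV
    haveI : QuasiSeparatedSpace ↥(f ⁻¹ᵁ V) := quasiSeparatedSpace_of_quasiSeparated (f ∣_ V)
    exact (isQuasiSeparated_iff_quasiSeparatedSpace _ (f ⁻¹ᵁ V).2).mpr this
  have hc : IsCompact ((U ⊓ U' : X.Opens) : Set X) :=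
    hq U U' h U.2 hU.isCompact h' U'.2 hU'.isCompact
  haveI : CompactSpace (U ⊓ U' : X.Opens).toScheme := isCompact_iff_compactSpace.mp hc
  haveI : IsAffine V := hV
  let g := f.resLE V (U ⊓ U') (inf_le_left.trans h)
  haveI : QuasiCompact g := (quasiCompact_iff_compactSpace g).mpr ‹_›
  have hgenV : IsGen (⟨η, hηV⟩ : V.toScheme) := Lib.SchTopo.Closure.maximal_of_forall_eq fun y hy =>
    Subtype.ext (hη.eq_of_specializes (hy.map V.ι.continuous))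
  refine ⟨V ⊓ ⟨(closure (Set.range (g ≫ V.ι)))ᶜ, isClosed_closure.isOpen_compl⟩,
    ⟨hηV, fun hc' => ?_⟩, fun z hz hfz => ?_⟩
  · have h1 : (⟨η, hηV⟩ : V.toScheme) ∈ closure (Set.range g) := by
      rw [V.ι.isOpenEmbedding.isInducing.closure_eq_preimage_closure_image]
      change V.ι ⟨η, hηV⟩ ∈ closure (V.ι '' Set.range g)
      rw [← Set.range_comp]
      exact hc'
    obtain ⟨w, hw⟩ := Lib.SchTopo.Closure.mem_range_of_mem_closure_range g hgenV h1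
    exact hne w.1 w.2 (by simpa [g] using congrArg (fun a => a.1) hw)
  · exact hfz.2 (subset_closure ⟨⟨z, hz⟩, by simp [g]⟩)

theorem isFinite_restrict_iSup (f : X ⟶ Y) {ι : Type*} (V : ι → Y.Opens)
    (h : ∀ i, IsFinite (f ∣_ V i)) : IsFinite (f ∣_ ⨆ i, V i) := by
  refine IsZariskiLocalAtTarget.of_iSup_eq_top (P := @IsFinite) (fun i => (⨆ i, V i).ι ⁻¹ᵁ V i)
    ?_ fun i => ?_
  · rw [eq_top_iff]
    intro y _
    obtain ⟨i, hi⟩ := Opens.mem_iSup.mp y.2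
    exact Opens.mem_iSup.mpr ⟨i, hi⟩
  · rw [MorphismProperty.arrow_mk_iso_iff @IsFinite (morphismRestrictRestrict f _ _)]
    have h1 : (⨆ i, V i).ι ''ᵁ ((⨆ i, V i).ι ⁻¹ᵁ V i) = V i := by
      rw [Scheme.Hom.image_preimage_eq_opensRange_inf, Scheme.Opens.opensRange_ι]
      exact inf_eq_right.mpr (le_iSup V i)
    rw [h1]
    exact h i

/-- Finiteness over a dense open, when generic points correspond. -/
theorem exists_dense_isFinite_restrict (f : X ⟶ Y) [LocallyOfFiniteType f] [QuasiCompact f]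
    (hX : (irreducibleComponents ↥X).Finite) (hY : (irreducibleComponents ↥Y).Finite)
    (hgen : ∀ x, IsGen x ↔ IsGen (f x)) :
    ∃ V : Y.Opens, Dense (V : Set Y) ∧ IsFinite (f ∣_ V) := by
  have key : ∀ η : {η : Y | IsGen η}, ∃ V : Y.Opens, η.1 ∈ V ∧ IsFinite (f ∣_ V) := by
    rintro ⟨η, hη⟩
    obtain ⟨N, hηN, hN⟩ := exists_nhd_unique_gen hY hη
    obtain ⟨V, hV, hηV, hVN⟩ := exists_isAffineOpen_mem_and_subset (X := Y) (x := η) (U := N) hηN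
    have hfin : (f ⁻¹' {η}).Finite := (finite_isGen hX).subset fun x hx =>
      (hgen x).mpr ((show f x = η from hx).symm ▸ hη)
    obtain ⟨V', -, hηV', -, hF⟩ := exists_isFinite_restrict f hη hfin hV hηV
      (fun W hW _ => exists_nhd_of_quasiCompact f hη W hW)
      (fun U U' _ _ _ _ hne => ⟨V, hηV, fun z hz hfz => by
        obtain ⟨ξ, hξ, hs⟩ := exists_isGen z
        have h1 := hs.map f.continuous
        exact hne ξ (hs.mem_open (U ⊓ U').2 hz) (hN (f z) (hVN hfz) (f ξ) ((hgen ξ).mp hξ) h1)⟩)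
    exact ⟨V', hηV', hF⟩
  choose V hV hF using key
  exact ⟨⨆ η, V η, dense_of_isGen_mem fun η hη => Opens.mem_iSup.mpr ⟨⟨η, hη⟩, hV ⟨η, hη⟩⟩,
    isFinite_restrict_iSup f V hF⟩

end Groth.Agent.H75.Birat
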